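import Mathlib

/-!
Elementary abelian 2-groups given by commuting involutions, extended by a polycyclic sequence,
and a bound on elementary abelian subgroups of such an extension from fixed-point data.
-/

namespace Cfsg.Agent.Lib.Fi23Sylow

/-- the product of the members selected by the bits of `m` -/
def elv {G : Type*} [Group G] : List G → ℕ → G
  | [], _ => 1
  | a :: as, m => (if m % 2 = 1 then a else 1) * elv as (m / 2)

/-- the sum of the rows selected by the bits of `m` -/
def actL : List ℕ → ℕ → ℕ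
  | [], _ => 0
  | r :: rs, m => (if m % 2 = 1 then r else 0) ^^^ actL rs (m / 2)

/-- the element with exponents the bits of `x` -/
def rpc {G : Type*} [Group G] (t : ℕ → G) : ℕ → ℕ → G
  | 0, _ => 1
  | k + 1, x => rpc t k (x % 2 ^ k) * (if x / 2 ^ k % 2 = 1 then t k else 1)

/-- the linear map of the element with exponents the bits of `x` -/
def actPC (M : ℕ → List ℕ) : ℕ → ℕ → ℕ → ℕ
  | 0, _, m => m
  | k + 1, x, m => actPC M k (x % 2 ^ k) (if x / 2 ^ k % 2 = 1 then actL (M k) m else m)

/-- linear map of `x` is an involution or trivial -/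
def invOK (R : ℕ → List ℕ) (x : ℕ) : Bool := (R x).map (actL (R x)) == (List.range 11).map (2 ^ ·)

/-- the linear maps of `x` and `y` commute -/
def comOK (R : ℕ → List ℕ) (x y : ℕ) : Bool := (R y).map (actL (R x)) == (R x).map (actL (R y))

/-- the fixed vectors of `x` -/
def fixed (R : ℕ → List ℕ) (x : ℕ) : List ℕ :=
  (List.range 2048).filter fun m => actL (R x) m == m

/-- candidates for non-trivial images in an elementary abelian subgroup -/
def invols (R : ℕ → List ℕ) : List ℕ := (List.range' 1 127).filter (invOK R)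

/-- the bound to be checked by evaluation -/
def rankOK (R : ℕ → List ℕ) : Bool :=
  (invols R).all fun x =>
    decide (2 * (fixed R x).length < 2048) &&
      (invols R).all fun y =>
        decide (x = y) || !comOK R x y ||
          decide ((1 + ((invols R).filter fun z => comOK R x z && comOK R y z).length) *
            ((fixed R x).filter fun m => actL (R y) m == m).length < 2048)

section Vectors

variable {G : Type*} [Group G]

theorem elv_zero : ∀ as : List G, elv as 0 = 1
  | [] => rfl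
  | a :: as => by simp [elv, elv_zero as]

theorem commute_elv {g : G} : ∀ {as : List G}, (∀ a ∈ as, Commute g a) → ∀ m, Commute g (elv as m)
  | [], _, _ => Commute.one_right g
  | a :: as, h, m => by
    have h' := commute_elv (as := as) (fun b hb => h b (List.mem_cons_of_mem _ hb)) (m / 2)
    by_cases hm : m % 2 = 1
    · simp only [elv, if_pos hm]; exact (h a (by simp)).mul_right h'
    · simp only [elv, if_neg hm, one_mul]; exact h'

theorem elv_xor : ∀ {as : List G}, (∀ a ∈ as, a * a = 1) →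
    (∀ a ∈ as, ∀ b ∈ as, Commute a b) → ∀ m n, elv as (m ^^^ n) = elv as m * elv as n
  | [], _, _, _, _ => by simp [elv]
  | a :: as, hi, hc, m, n => by
    have ih := elv_xor (as := as) (fun b hb => hi b (List.mem_cons_of_mem _ hb))
      (fun b hb c hc' => hc b (List.mem_cons_of_mem _ hb) c (List.mem_cons_of_mem _ hc'))
      (m / 2) (n / 2)
    have hd : (m ^^^ n) / 2 = (m / 2) ^^^ (n / 2) := by
      simp only [← Nat.shiftRight_one, Nat.shiftRight_xor_distrib]
    have hcom : Commute (elv as (m / 2)) a :=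
      (commute_elv (fun b hb => hc a (by simp) b (List.mem_cons_of_mem _ hb)) _).symm
    have hA : (if (m ^^^ n) % 2 = 1 then a else 1) =
        (if m % 2 = 1 then a else 1) * (if n % 2 = 1 then a else 1) := by
      have hp := Nat.xor_mod_two_eq_one (a := m) (b := n)
      by_cases h1 : m % 2 = 1 <;> by_cases h2 : n % 2 = 1
      · rw [if_neg (fun h => hp.mp h (iff_of_true h1 h2)), if_pos h1, if_pos h2, hi a (by simp)]
      · rw [if_pos (hp.mpr fun h => h2 (h.mp h1)), if_pos h1, if_neg h2, mul_one]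
      · rw [if_pos (hp.mpr fun h => h1 (h.mpr h2)), if_neg h1, if_pos h2, one_mul]
      · rw [if_neg (fun h => hp.mp h (iff_of_false h1 h2)), if_neg h1, if_neg h2, one_mul]
    have hcom' : Commute (elv as (m / 2)) (if n % 2 = 1 then a else 1) := by
      split
      · exact hcom
      · exact Commute.one_right _
    simp only [elv]
    rw [hd, ih, hA, mul_assoc, mul_assoc, ← mul_assoc (if n % 2 = 1 then a else 1),
      ← hcom'.eq, mul_assoc]

theorem conj_elv (t : G) (AS : List G) (hi : ∀ a ∈ AS, a * a = 1)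
    (hc : ∀ a ∈ AS, ∀ b ∈ AS, Commute a b) :
    ∀ {as : List G} {rows : List ℕ}, List.Forall₂ (fun a r => t * a * t⁻¹ = elv AS r) as rows →
      ∀ m, t * elv as m * t⁻¹ = elv AS (actL rows m)
  | _, _, .nil, m => by simp [elv, actL, elv_zero]
  | _, _, .cons (a := a) (b := r) (l₁ := as) (l₂ := rows) h hr, m => by
    simp only [elv, actL]
    rw [elv_xor hi hc, ← conj_elv t AS hi hc hr (m / 2)]
    by_cases hm : m % 2 = 1
    · rw [if_pos hm, if_pos hm, ← h]; group
    · rw [if_neg hm, if_neg hm, elv_zero]; group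

theorem actL_lt : ∀ {rows : List ℕ} (k : ℕ), (∀ r ∈ rows, r < 2 ^ k) → ∀ m, actL rows m < 2 ^ k
  | [], k, _, _ => Nat.two_pow_pos k
  | r :: rows, k, h, m => by
    simp only [actL]
    refine Nat.xor_lt_two_pow ?_ (actL_lt k (fun x hx => h x (List.mem_cons_of_mem _ hx)) _)
    split
    · exact h r (by simp)
    · exact Nat.two_pow_pos k

end Vectors

/-- the data of the extension -/
structure Ext {G : Type*} [Group G] (AS : List G) (t : ℕ → G) (M : ℕ → List ℕ) : Prop where
  invol : ∀ a ∈ AS, a * a = 1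
  comm : ∀ a ∈ AS, ∀ b ∈ AS, Commute a b
  inj : ∀ m, m < 2048 → elv AS m = 1 → m = 0
  rows : ∀ k, k < 7 → List.Forall₂ (fun a r => t k * a * (t k)⁻¹ = elv AS r) AS (M k)
  rows_lt : ∀ k, k < 7 → ∀ r ∈ M k, r < 2048
  sq : ∀ k, k < 7 → ∃ m < 2048, ∃ x < 2 ^ k, t k * t k = elv AS m * rpc t k x
  conj : ∀ k, k < 7 → ∀ j, j < k → ∃ m < 2048, ∃ x < 2 ^ k,
    t k * t j * (t k)⁻¹ = elv AS m * rpc t k x

namespace Ext

variable {G : Type*} [Group G] {AS : List G} {t : ℕ → G} {M : ℕ → List ℕ} (E : Ext AS t M)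

include E

theorem add (m n : ℕ) : elv AS (m ^^^ n) = elv AS m * elv AS n := elv_xor E.invol E.comm m n

theorem inv_elv (m : ℕ) : (elv AS m)⁻¹ = elv AS m :=
  inv_eq_of_mul_eq_one_right (by rw [← E.add, Nat.xor_self, elv_zero])

theorem elv_inj {m n : ℕ} (hm : m < 2048) (hn : n < 2048) (h : elv AS m = elv AS n) : m = n := by
  have := E.inj _ (Nat.xor_lt_two_pow (n := 11) hm hn)
    (by rw [E.add, h, ← E.add, Nat.xor_self, elv_zero])
  exact xor_eq_zero_iff_eq this
where
  xor_eq_zero_iff_eq {a b : ℕ} (h : a ^^^ b = 0) : a = b := by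
    have := congrArg (· ^^^ b) h
    simpa [Nat.xor_assoc] using this

theorem actPC_lt : ∀ k, k ≤ 7 → ∀ x m, m < 2048 → actPC M k x m < 2048
  | 0, _, _, _, h => h
  | k + 1, hk, x, m, h => by
    refine actPC_lt k (by omega) _ _ ?_
    split
    · exact actL_lt (rows := M k) 11 (E.rows_lt k (by omega)) m
    · exact h

theorem conj_rpc : ∀ k, k ≤ 7 → ∀ x m, m < 2048 →
    rpc t k x * elv AS m * (rpc t k x)⁻¹ = elv AS (actPC M k x m)
  | 0, _, _, _, _ => by simp [rpc, actPC]
  | k + 1, hk, x, m, hm => by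
    simp only [rpc, actPC]
    by_cases hb : x / 2 ^ k % 2 = 1
    · rw [if_pos hb, if_pos hb, ← conj_rpc k (by omega) _ _
        (actL_lt (rows := M k) 11 (E.rows_lt k (by omega)) m),
        ← conj_elv (t k) AS E.invol E.comm (E.rows k (by omega)) m]
      group
    · rw [if_neg hb, if_neg hb, mul_one]
      exact conj_rpc k (by omega) _ _ hm

theorem conj_tk {k : ℕ} (hk : k < 7) (m : ℕ) :
    t k * elv AS m * (t k)⁻¹ = elv AS (actL (M k) m) :=
  conj_elv (t k) AS E.invol E.comm (E.rows k hk) m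

theorem exists_subgroup : ∀ k, k ≤ 7 → ∃ H : Subgroup G, ∀ g, g ∈ H ↔
    ∃ m < 2048, ∃ x < 2 ^ k, g = elv AS m * rpc t k x := by
  intro k
  induction k with
  | zero =>
    intro _
    refine ⟨{ carrier := {g | ∃ m < 2048, g = elv AS m}
              one_mem' := ⟨0, by norm_num, (elv_zero _).symm⟩
              mul_mem' := ?_
              inv_mem' := ?_ }, fun g => ?_⟩
    · rintro _ _ ⟨m, hm, rfl⟩ ⟨n, hn, rfl⟩
      exact ⟨m ^^^ n, Nat.xor_lt_two_pow (n := 11) hm hn, (E.add m n).symm⟩
    · rintro _ ⟨m, hm, rfl⟩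
      exact ⟨m, hm, E.inv_elv m⟩
    · constructor
      · rintro ⟨m, hm, rfl⟩
        exact ⟨m, hm, 0, by norm_num, by simp [rpc]⟩
      · rintro ⟨m, hm, x, -, rfl⟩
        exact ⟨m, hm, by simp [rpc]⟩
  | succ k ih =>
    intro hk
    obtain ⟨H, hH⟩ := ih (by omega)
    set s := t k with hs
    have h2 : s * s ∈ H := (hH _).mpr (E.sq k (by omega))
    have hconj : ∀ j, j < k → s * t j * s⁻¹ ∈ H := fun j hj =>
      (hH _).mpr (E.conj k (by omega) j hj)
    have hr : ∀ j, j ≤ k → ∀ x, s * rpc t j x * s⁻¹ ∈ H := by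
      intro j
      induction j with
      | zero => intro _ x; simp [rpc]
      | succ j ihj =>
        intro hj x
        simp only [rpc]
        split
        · have e : s * (rpc t j (x % 2 ^ j) * t j) * s⁻¹ =
              (s * rpc t j (x % 2 ^ j) * s⁻¹) * (s * t j * s⁻¹) := by group
          rw [e]
          exact mul_mem (ihj (by omega) _) (hconj j (by omega))
        · rw [mul_one]; exact ihj (by omega) _
    have hn : ∀ h ∈ H, s * h * s⁻¹ ∈ H := by
      intro h hh
      obtain ⟨m, hm, x, hx, rfl⟩ := (hH h).mp hh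
      have e : s * (elv AS m * rpc t k x) * s⁻¹ =
          (s * elv AS m * s⁻¹) * (s * rpc t k x * s⁻¹) := by group
      rw [e, E.conj_tk (by omega)]
      refine mul_mem ((hH _).mpr ⟨_, actL_lt (rows := M k) 11 (E.rows_lt k (by omega)) m,
        0, Nat.two_pow_pos k, ?_⟩) (hr k le_rfl x)
      rw [show rpc t k 0 = 1 from ?_, mul_one]
      clear * -
      induction k with
      | zero => rfl
      | succ k ih => simp [rpc, ih]
    have hn' : ∀ h ∈ H, s⁻¹ * h * s ∈ H := by
      intro h hh
      have e : s⁻¹ * h * s = (s * s)⁻¹ * (s * h * s⁻¹) * (s * s) := by group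
      rw [e]
      exact mul_mem (mul_mem (inv_mem h2) (hn h hh)) h2
    refine ⟨{ carrier := {g | g ∈ H ∨ g * s⁻¹ ∈ H}
              one_mem' := Or.inl (one_mem H)
              mul_mem' := ?_
              inv_mem' := ?_ }, fun g => ?_⟩
    · rintro a b (ha | ha) (hb | hb)
      · exact Or.inl (mul_mem ha hb)
      · exact Or.inr (by rw [mul_assoc]; exact mul_mem ha hb)
      · refine Or.inr ?_
        have e : a * b * s⁻¹ = (a * s⁻¹) * (s * b * s⁻¹) := by group
        rw [e]; exact mul_mem ha (hn b hb)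
      · refine Or.inl ?_
        have e : a * b = (a * s⁻¹) * (s * (b * s⁻¹) * s⁻¹) * (s * s) := by group
        rw [e]; exact mul_mem (mul_mem ha (hn _ hb)) h2
    · rintro a (ha | ha)
      · exact Or.inl (inv_mem ha)
      · refine Or.inr ?_
        have e : a⁻¹ * s⁻¹ = (s⁻¹ * (a * s⁻¹)⁻¹ * s) * (s * s)⁻¹ := by group
        rw [e]; exact mul_mem (hn' _ (inv_mem ha)) (inv_mem h2)
    · have hp : 2 ^ (k + 1) = 2 ^ k + 2 ^ k := by rw [pow_succ]; omega
      constructor
      · rintro (hg | hg)
        · obtain ⟨m, hm, x, hx, rfl⟩ := (hH g).mp hg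
          refine ⟨m, hm, x, by omega, ?_⟩
          simp only [rpc, Nat.mod_eq_of_lt hx, Nat.div_eq_of_lt hx]
          simp
        · obtain ⟨m, hm, x, hx, e⟩ := (hH _).mp hg
          refine ⟨m, hm, x + 2 ^ k, by omega, ?_⟩
          have h3 : (x + 2 ^ k) / 2 ^ k = 1 := by
            rw [Nat.add_div_right _ (Nat.two_pow_pos k), Nat.div_eq_of_lt hx]
          simp only [rpc, h3, Nat.add_mod_right, Nat.mod_eq_of_lt hx]
          rw [if_pos (by norm_num), ← mul_assoc, ← e, inv_mul_cancel_right]
      · rintro ⟨m, hm, x, hx, rfl⟩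
        have hb : x % 2 ^ k < 2 ^ k := Nat.mod_lt _ (Nat.two_pow_pos k)
        by_cases h1 : x / 2 ^ k % 2 = 1
        · refine Or.inr ((hH _).mpr ⟨m, hm, _, hb, ?_⟩)
          simp only [rpc, if_pos h1]
          rw [← hs]; group
        · refine Or.inl ((hH _).mpr ⟨m, hm, _, hb, ?_⟩)
          simp only [rpc, if_neg h1, mul_one]

/-- the rows of `x` describe conjugation -/
theorem conj_rows {R : ℕ → List ℕ}
    (hR : ∀ x, x < 128 → R x = (List.range 11).map fun i => actPC M 7 x (2 ^ i))
    (hAS : AS.length = 11) {x : ℕ} (hx : x < 128) (m : ℕ) :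
    rpc t 7 x * elv AS m * (rpc t 7 x)⁻¹ = elv AS (actL (R x) m) := by
  refine conj_elv _ AS E.invol E.comm ?_ m
  rw [List.forall₂_iff_get]
  refine ⟨by rw [hR x hx]; simp [hAS], fun i h1 h2 => ?_⟩
  have hi : i < 11 := hAS ▸ h1
  simp only [List.get_eq_getElem]
  rw [List.getElem_of_eq (hR x hx) h2, List.getElem_map, List.getElem_range,
    ← E.conj_rpc 7 le_rfl x _ (Nat.pow_lt_pow_right (by norm_num) hi)]
  congr 2
  -- the i-th unit vector selects the i-th member
  clear * - h1
  induction AS generalizing i with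
  | nil => simp at h1
  | cons a as ih =>
    cases i with
    | zero => simp [elv, elv_zero]
    | succ i =>
      simp only [elv, List.getElem_cons_succ]
      rw [ih i (by simpa using h1)]
      simp [Nat.pow_succ]

theorem rpc_zero : ∀ k, rpc t k 0 = 1
  | 0 => rfl
  | k + 1 => by simp [rpc, rpc_zero k]

/-- an elementary abelian subgroup of order at least `2 ^ 11` lies in the normal one -/
theorem rank_bound {R : ℕ → List ℕ}
    (hR : ∀ x, x < 128 → R x = (List.range 11).map fun i => actPC M 7 x (2 ^ i))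
    (hAS : AS.length = 11) (hok : rankOK R = true) (B : Subgroup G)
    (hB : ∀ g ∈ B, ∃ m < 2048, ∃ x < 128, g = elv AS m * rpc t 7 x)
    (hc : ∀ a ∈ B, ∀ b ∈ B, a * b = b * a) (h2 : ∀ a ∈ B, a * a = 1)
    (hcard : 2048 ≤ Nat.card B) : ∀ g ∈ B, ∃ m < 2048, g = elv AS m := by
  classical
  let X : Finset ℕ :=
    (Finset.range 128).filter fun x => ∃ m < 2048, elv AS m * rpc t 7 x ∈ B
  have memX : ∀ {x}, x ∈ X → x < 128 ∧ ∃ m < 2048, elv AS m * rpc t 7 x ∈ B := fun {x} hx => by
    simpa [X] using hx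
  have hRlt : ∀ x, x < 128 → ∀ r ∈ R x, r < 2048 := fun x hx r hr => by
    rw [hR x hx, List.mem_map] at hr
    obtain ⟨i, hi, rfl⟩ := hr
    exact E.actPC_lt 7 le_rfl _ _
      (Nat.pow_lt_pow_right (by norm_num) (List.mem_range.mp hi))
  have alt : ∀ {x}, x < 128 → ∀ v, actL (R x) v < 2048 := fun {x} hx v =>
    actL_lt (rows := R x) 11 (hRlt x hx) v
  -- conjugation by a member of `B`
  have hconj : ∀ {x m : ℕ}, x < 128 → ∀ v,
      (elv AS m * rpc t 7 x) * elv AS v * (elv AS m * rpc t 7 x)⁻¹ = elv AS (actL (R x) v) := by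
    intro x m hx v
    have e : (elv AS m * rpc t 7 x) * elv AS v * (elv AS m * rpc t 7 x)⁻¹ =
        elv AS m * (rpc t 7 x * elv AS v * (rpc t 7 x)⁻¹) * (elv AS m)⁻¹ := by group
    rw [e, E.conj_rows hR hAS hx, E.inv_elv, ← E.add, ← E.add, Nat.xor_comm m,
      Nat.xor_assoc, Nat.xor_self, Nat.xor_zero]
  have hunit : ∀ {x : ℕ}, x < 128 → ∀ i, i < 11 →
      actPC M 7 x (2 ^ i) = actL (R x) (2 ^ i) := by
    intro x hx i hi
    have hl : 2 ^ i < 2048 := Nat.pow_lt_pow_right (by norm_num) hi
    exact E.elv_inj (E.actPC_lt 7 le_rfl _ _ hl) (alt hx _)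
      ((E.conj_rpc 7 le_rfl x _ hl).symm.trans (E.conj_rows hR hAS hx _))
  have hinv : ∀ x ∈ X, x ≠ 0 → x ∈ invols R := by
    intro x hx h0
    obtain ⟨hlt, m, -, hb⟩ := memX hx
    refine List.mem_filter.mpr ⟨List.mem_range'_1.mpr ⟨by omega, by omega⟩, ?_⟩
    rw [invOK, beq_iff_eq]
    conv_lhs => arg 2; rw [hR x hlt]
    rw [List.map_map]
    refine List.map_congr_left fun i hi => ?_
    have hi' := List.mem_range.mp hi
    have hl : 2 ^ i < 2048 := Nat.pow_lt_pow_right (by norm_num) hi'
    show actL (R x) (actPC M 7 x (2 ^ i)) = 2 ^ i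
    rw [hunit hlt i hi']
    refine E.elv_inj (alt hlt _) hl ?_
    rw [← hconj (m := m) hlt, ← hconj (m := m) hlt]
    have e := h2 _ hb
    generalize elv AS m * rpc t 7 x = b at e
    have e' : b⁻¹ = b := inv_eq_of_mul_eq_one_right e
    rw [e', mul_assoc b, mul_assoc _ b b, e, mul_one, ← mul_assoc, e, one_mul]
  have hcom : ∀ x ∈ X, ∀ y ∈ X, comOK R x y = true := by
    intro x hx y hy
    obtain ⟨hxl, m, -, hb⟩ := memX hx
    obtain ⟨hyl, n, -, hb'⟩ := memX hy
    rw [comOK, beq_iff_eq]
    conv_lhs => arg 2; rw [hR y hyl]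
    conv_rhs => arg 2; rw [hR x hxl]
    rw [List.map_map, List.map_map]
    refine List.map_congr_left fun i hi => ?_
    have hi' := List.mem_range.mp hi
    show actL (R x) (actPC M 7 y (2 ^ i)) = actL (R y) (actPC M 7 x (2 ^ i))
    rw [hunit hyl i hi', hunit hxl i hi']
    refine E.elv_inj (alt hxl _) (alt hyl _) ?_
    rw [← hconj (m := m) hxl, ← hconj (m := n) hyl, ← hconj (m := n) hyl, ← hconj (m := m) hxl]
    have e := hc _ hb _ hb'
    generalize elv AS m * rpc t 7 x = b at e
    generalize elv AS n * rpc t 7 y = b' at e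
    calc b * (b' * elv AS (2 ^ i) * b'⁻¹) * b⁻¹
        = (b * b') * elv AS (2 ^ i) * (b * b')⁻¹ := by group
      _ = (b' * b) * elv AS (2 ^ i) * (b' * b)⁻¹ := by rw [e]
      _ = b' * (b * elv AS (2 ^ i) * b⁻¹) * b'⁻¹ := by group
  -- the part of `B` inside the normal subgroup
  let F : Finset ℕ := (Finset.range 2048).filter fun v => ∀ x ∈ X, actL (R x) v = v
  have hdec : ∀ b : B, ∃ p : ℕ × ℕ, p.1 < 2048 ∧ p.2 ∈ X ∧
      (b : G) = elv AS p.1 * rpc t 7 p.2 := by
    intro b
    obtain ⟨m, hm, x, hx, e⟩ := hB b b.2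
    refine ⟨(m, x), hm, ?_, e⟩
    simp only [X, Finset.mem_filter, Finset.mem_range]
    exact ⟨hx, m, hm, e ▸ b.2⟩
  choose p hp1 hp2 hp3 using hdec
  have hrep : ∀ x : X, ∃ m < 2048, elv AS m * rpc t 7 x.1 ∈ B := fun x => (memX x.2).2
  choose r hr1 hr2 using hrep
  let f : B → X × F := fun b =>
    (⟨(p b).2, hp2 b⟩, ⟨(p b).1 ^^^ r ⟨(p b).2, hp2 b⟩, by
      have hl : (p b).1 ^^^ r ⟨(p b).2, hp2 b⟩ < 2048 :=
        Nat.xor_lt_two_pow (n := 11) (hp1 b) (hr1 _)
      simp only [F, Finset.mem_filter, Finset.mem_range]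
      refine ⟨hl, fun y hy => ?_⟩
      obtain ⟨hyl, n, -, hn⟩ := memX hy
      refine E.elv_inj (alt hyl _) hl ?_
      have hmem : elv AS ((p b).1 ^^^ r ⟨(p b).2, hp2 b⟩) ∈ B := by
        have e : elv AS ((p b).1 ^^^ r ⟨(p b).2, hp2 b⟩) =
            (b : G) * (elv AS (r ⟨(p b).2, hp2 b⟩) * rpc t 7 (p b).2)⁻¹ := by
          rw [E.add, hp3 b, mul_inv_rev, E.inv_elv]; group
        rw [e]
        exact mul_mem b.2 (inv_mem (hr2 ⟨(p b).2, hp2 b⟩))
      rw [← hconj (m := n) hyl, hc _ hn _ hmem, mul_inv_cancel_right]⟩)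
  have hf : Function.Injective f := by
    intro b b' h
    simp only [f, Prod.mk.injEq, Subtype.mk.injEq] at h
    obtain ⟨h1, h1'⟩ := h
    have er : r ⟨(p b).2, hp2 b⟩ = r ⟨(p b').2, hp2 b'⟩ := by
      congr 1; exact Subtype.ext h1
    have h3 : (p b).1 = (p b').1 := by
      have := congrArg (· ^^^ r ⟨(p b').2, hp2 b'⟩) h1'
      simp only [er, Nat.xor_assoc, Nat.xor_self, Nat.xor_zero] at this
      exact this
    exact Subtype.ext (by rw [hp3 b, hp3 b', h1, h3])
  have hbound : 2048 ≤ X.card * F.card := by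
    have := Nat.card_le_card_of_injective f hf
    rw [Nat.card_prod] at this
    simp only [Nat.card_eq_finsetCard] at this
    exact hcard.trans this
  intro g hg
  obtain ⟨m, hm, x, hx, rfl⟩ := hB g hg
  refine ⟨m, hm, ?_⟩
  have hxX : x ∈ X := by
    simp only [X, Finset.mem_filter, Finset.mem_range]; exact ⟨hx, m, hm, hg⟩
  by_cases h0 : x = 0
  · rw [h0, E.rpc_zero, mul_one]
  exfalso
  simp only [rankOK, List.all_eq_true, Bool.and_eq_true, Bool.or_eq_true, decide_eq_true_eq,
    Bool.not_eq_true'] at hok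
  obtain ⟨h1, h2'⟩ := hok x (hinv x hxX h0)
  have hF1 : F.card ≤ (fixed R x).length := by
    refine le_trans (Finset.card_le_card (t := (fixed R x).toFinset) fun v hv => ?_)
      (List.toFinset_card_le _)
    simp only [F, Finset.mem_filter, Finset.mem_range] at hv
    simp only [List.mem_toFinset, fixed, List.mem_filter, List.mem_range, beq_iff_eq]
    exact ⟨hv.1, hv.2 x hxX⟩
  by_cases hy : ∃ y ∈ X, y ≠ 0 ∧ y ≠ x
  · obtain ⟨y, hyX, hy0, hyx⟩ := hy
    rcases h2' y (hinv y hyX hy0) with (h | h) | h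
    · exact hyx h.symm
    · rw [hcom x hxX y hyX] at h; exact Bool.noConfusion h
    · have hX : X.card ≤ 1 + ((invols R).filter fun z => comOK R x z && comOK R y z).length := by
        refine le_trans (Finset.card_le_card
          (t := insert 0 ((invols R).filter fun z => comOK R x z && comOK R y z).toFinset)
          fun z hz => ?_) ?_
        · rw [Finset.mem_insert]
          by_cases hz0 : z = 0
          · exact Or.inl hz0
          · refine Or.inr (List.mem_toFinset.mpr (List.mem_filter.mpr ⟨hinv z hz hz0, ?_⟩))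
            rw [hcom x hxX z hz, hcom y hyX z hz]; rfl
        · refine (Finset.card_insert_le _ _).trans ?_
          have := List.toFinset_card_le
            ((invols R).filter fun z => comOK R x z && comOK R y z)
          omega
      have hF : F.card ≤ ((fixed R x).filter fun m => actL (R y) m == m).length := by
        refine le_trans (Finset.card_le_card
          (t := ((fixed R x).filter fun m => actL (R y) m == m).toFinset) fun v hv => ?_)
          (List.toFinset_card_le _)
        simp only [F, Finset.mem_filter, Finset.mem_range] at hv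
        simp only [List.mem_toFinset, fixed, List.mem_filter, List.mem_range, beq_iff_eq]
        exact ⟨⟨hv.1, hv.2 x hxX⟩, hv.2 y hyX⟩
      exact absurd (hbound.trans (Nat.mul_le_mul hX hF)) (not_le.mpr h)
  · have hX : X.card ≤ 2 := by
      refine le_trans (Finset.card_le_card (t := {0, x}) fun z hz => ?_) Finset.card_le_two
      simp only [Finset.mem_insert, Finset.mem_singleton]
      by_contra hne
      push Not at hne
      exact hy ⟨z, hz, hne.1, hne.2⟩
    exact absurd (hbound.trans (Nat.mul_le_mul hX hF1)) (not_le.mpr h1)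

end Ext

/-- the same bound, with the fixed vectors tabulated -/
def tableOK (R : ℕ → List ℕ) (L : List (ℕ × List ℕ)) : Bool :=
  L.all fun p =>
    decide (2 * p.2.length < 2048) &&
      L.all fun q =>
        decide (p.1 = q.1) || !comOK R p.1 q.1 ||
          decide ((1 + ((L.map Prod.fst).filter fun z => comOK R p.1 z && comOK R q.1 z).length) *
            (p.2.filter fun m => actL (R q.1) m == m).length < 2048)

theorem rankOK_of_table {R : ℕ → List ℕ} {L : List (ℕ × List ℕ)}
    (h1 : invols R = L.map Prod.fst) (h2 : L.all (fun p => fixed R p.1 == p.2) = true)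
    (h3 : tableOK R L = true) : rankOK R = true := by
  simp only [List.all_eq_true, beq_iff_eq] at h2
  simp only [tableOK, List.all_eq_true, Bool.and_eq_true, decide_eq_true_eq] at h3
  simp only [rankOK, h1, List.all_eq_true, List.mem_map, Bool.and_eq_true, decide_eq_true_eq]
  rintro _ ⟨p, hp, rfl⟩
  rw [h2 p hp]
  refine ⟨(h3 p hp).1, ?_⟩
  rintro _ ⟨q, hq, rfl⟩
  exact (h3 p hp).2 q hq

end Cfsg.Agent.Lib.Fi23Sylow
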